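import Mathlib
import Groth.Prelude.Def_DRing3

/-!
Maps from finite torsion modules into a complex of injectives.
-/

set_option autoImplicit false
set_option linter.style.haveILetI false

universe u

open CategoryTheory CategoryTheory.Limits LocCoh

noncomputable section

namespace LcExtHomLib

variable {A : Type u} [CommRing A] [IsNoetherianRing A] {J : Ideal A}
variable {P₀ P₁ P₂ : Type u} [AddCommGroup P₀] [Module A P₀] [AddCommGroup P₁] [Module A P₁]
  [AddCommGroup P₂] [Module A P₂] (d : P₀ →ₗ[A] P₁) (e : P₁ →ₗ[A] P₂)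

/-- Killed by `J ^ k`. -/
def Killed (J : Ideal A) (k : ℕ) (M : Type u) [AddCommGroup M] [Module A M] : Prop :=
  ∀ a ∈ J ^ k, ∀ x : M, a • x = 0

/-- Cocycles on submodules of finite torsion modules extend. -/
def ExtendsCocycles (J : Ideal A) : Prop :=
  ∀ (K P : Type u) [AddCommGroup K] [Module A K] [AddCommGroup P] [Module A P] [Module.Finite A P] (k : ℕ),
    Killed J k P → ∀ (ι : K →ₗ[A] P), Function.Injective ι → ∀ h : K →ₗ[A] P₀, d ∘ₗ h = 0 →
      ∃ h' : P →ₗ[A] P₀, d ∘ₗ h' = 0 ∧ h' ∘ₗ ι = h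

omit [IsNoetherianRing A] in
theorem mem_torsion_of_killed {k : ℕ} {F : Type u} [AddCommGroup F] [Module A F] (hF : Killed J k F)
    (g : F →ₗ[A] P₀) (x : F) : g x ∈ DRing.torsionSub J P₀ :=
  ⟨k, fun a ha => by rw [← map_smul, hF a ha x, map_zero]⟩

omit [IsNoetherianRing A] in
theorem exists_common (n : ℕ) (v : Fin n → P₀) (hv : ∀ j, v j ∈ DRing.torsionSub J P₀) :
    ∃ m : ℕ, ∀ j, ∀ a ∈ J ^ m, a • v j = 0 := by
  choose t ht using hv
  exact ⟨Finset.univ.sup t, fun j a ha =>
    ht j a (Ideal.pow_le_pow_right (Finset.le_sup (Finset.mem_univ j)) ha)⟩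

omit [IsNoetherianRing A] in
/-- A presentation of `F` by a killed module carrying prescribed values. -/
theorem exists_cover {k : ℕ} {F : Type u} [AddCommGroup F] [Module A F] [Module.Finite A F]
    (hF : Killed J k F) (Q : Type u) [AddCommGroup Q] [Module A Q] (val : F → Q)
    (hval : ∀ x, val x ∈ DRing.torsionSub J Q) :
    ∃ (P : Type u) (_ : AddCommGroup P) (_ : Module A P) (m : ℕ) (π : P →ₗ[A] F) (g : P →ₗ[A] Q) (n : ℕ)
      (p : Fin n → P), Module.Finite A P ∧ Killed J m P ∧ Function.Surjective π ∧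
      Submodule.span A (Set.range p) = ⊤ ∧ ∀ j, g (p j) = val (π (p j)) := by
  obtain ⟨n, f, hf⟩ := Module.Finite.exists_fin (R := A) (M := F)
  obtain ⟨m₀, hm₀⟩ := exists_common (J := J) n (fun j => val (f j)) fun j => hval _
  let m := max m₀ k
  let N : Submodule A (Fin n → A) := J ^ m • ⊤
  let π₀ : (Fin n → A) →ₗ[A] F := Fintype.linearCombination A f
  let g₀ : (Fin n → A) →ₗ[A] Q := Fintype.linearCombination A fun j => val (f j)
  have hπ : N ≤ LinearMap.ker π₀ := Submodule.smul_le.2 fun a ha x _ => by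
    rw [LinearMap.mem_ker, map_smul]
    exact hF a (Ideal.pow_le_pow_right (le_max_right _ _) ha) _
  have hg : N ≤ LinearMap.ker g₀ := Submodule.smul_le.2 fun a ha x _ => by
    rw [LinearMap.mem_ker, map_smul, Fintype.linearCombination_apply, Finset.smul_sum]
    refine Finset.sum_eq_zero fun j _ => ?_
    rw [smul_comm, hm₀ j a (Ideal.pow_le_pow_right (le_max_left _ _) ha), smul_zero]
  refine ⟨(Fin n → A) ⧸ N, inferInstance, inferInstance, m, N.liftQ π₀ hπ, N.liftQ g₀ hg, n,
    fun j => N.mkQ (Pi.single j 1), inferInstance, fun a ha x => ?_, ?_, ?_, fun j => ?_⟩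
  · obtain ⟨y, rfl⟩ := Submodule.mkQ_surjective N x
    rw [← map_smul, Submodule.mkQ_apply, Submodule.Quotient.mk_eq_zero]
    exact Submodule.smul_mem_smul ha Submodule.mem_top
  · have hsur : Function.Surjective π₀ := by
      rw [← LinearMap.range_eq_top, Fintype.range_linearCombination]
      exact hf
    intro x
    obtain ⟨y, rfl⟩ := hsur x
    exact ⟨N.mkQ y, rfl⟩
  · rw [show (Set.range fun j => N.mkQ (Pi.single j (1 : A))) = N.mkQ '' Set.range fun j => Pi.single j (1 : A) from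
      (Set.range_comp _ _), Submodule.span_image]
    have : Submodule.span A (Set.range fun j : Fin n => (Pi.single j (1 : A) : Fin n → A)) = ⊤ := by
      refine eq_top_iff.2 ?_
      rw [← (Pi.basisFun A (Fin n)).span_eq]
      refine Submodule.span_mono (Set.range_subset_iff.2 fun j => ⟨j, ?_⟩)
      simp
    rw [this, Submodule.map_top, Submodule.range_mkQ]
  · show g₀ (Pi.single j 1) = val (π₀ (Pi.single j 1))
    simp [g₀, π₀]

variable {d}

/-- Descend along a surjection. -/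
theorem exists_descend {P F Q : Type u} [AddCommGroup P] [Module A P] [AddCommGroup F] [Module A F]
    [AddCommGroup Q] [Module A Q] {π : P →ₗ[A] F} (hπ : Function.Surjective π) (g : P →ₗ[A] Q)
    (hg : g ∘ₗ (LinearMap.ker π).subtype = 0) : ∃ g' : F →ₗ[A] Q, g' ∘ₗ π = g := by
  have hk : LinearMap.ker π ≤ LinearMap.ker g := fun x hx => LinearMap.congr_fun hg ⟨x, hx⟩
  refine ⟨(LinearMap.ker π).liftQ g hk ∘ₗ (LinearMap.quotKerEquivOfSurjective π hπ).symm.toLinearMap,
    LinearMap.ext fun x => ?_⟩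
  show (LinearMap.ker π).liftQ g hk ((LinearMap.quotKerEquivOfSurjective π hπ).symm (π x)) = g x
  rw [(LinearEquiv.symm_apply_eq _).2 (LinearMap.quotKerEquivOfSurjective_apply_mk _ _ x).symm]
  rfl

/-- Maps into boundaries of torsion elements lift. -/
theorem exists_lift (hd : ExtendsCocycles d J) {k : ℕ} {F : Type u} [AddCommGroup F] [Module A F]
    [Module.Finite A F] (hF : Killed J k F) (g₀ : F →ₗ[A] P₁)
    (hg₀ : ∀ x, ∃ y ∈ DRing.torsionSub J P₀, d y = g₀ x) : ∃ g₁ : F →ₗ[A] P₀, d ∘ₗ g₁ = g₀ := by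
  choose val hval hdval using hg₀
  obtain ⟨P, _, _, m, π, g, n, p, _, hP, hπ, hspan, hgp⟩ := exists_cover hF P₀ val hval
  have hdg : d ∘ₗ g = g₀ ∘ₗ π :=
    LinearMap.ext_on_range hspan fun j => by simp [hgp, hdval]
  obtain ⟨h', hh', hhι⟩ := hd (LinearMap.ker π) P m hP (LinearMap.ker π).subtype Subtype.val_injective
    (g ∘ₗ (LinearMap.ker π).subtype) (by
      rw [← LinearMap.comp_assoc, hdg]
      exact LinearMap.ext fun x => by simp [x.2])
  obtain ⟨g₁, hg₁⟩ := exists_descend hπ (g - h') (by rw [LinearMap.sub_comp, hhι, sub_self])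
  refine ⟨g₁, (LinearMap.cancel_right hπ).1 ?_⟩
  rw [LinearMap.comp_assoc, hg₁, LinearMap.comp_sub, hh', sub_zero, hdg]

/-- Every map into torsion cohomology classes comes from a cocycle. -/
theorem exists_cocycle (hd : ExtendsCocycles d J) (hinj : Module.Injective A P₀) (hed : e ∘ₗ d = 0) {k : ℕ}
    {F : Type u} [AddCommGroup F] [Module A F] [Module.Finite A F] (hF : Killed J k F)
    {H : Type u} [AddCommGroup H] [Module A H] (Z : Submodule A P₁)
    (hZ : ∀ z, z ∈ Z ↔ e z = 0 ∧ z ∈ DRing.torsionSub J P₁) (c : Z →ₗ[A] H) (hc : Function.Surjective c)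
    (hker : ∀ z : Z, c z = 0 ↔ ∃ y ∈ DRing.torsionSub J P₀, d y = z.1) (φ : F →ₗ[A] H) :
    ∃ (z : F →ₗ[A] P₁) (hz : ∀ x, z x ∈ Z), c ∘ₗ z.codRestrict Z hz = φ := by
  choose val hval using fun x => hc (φ x)
  obtain ⟨P, _, _, m, π, g, n, p, _, hP, hπ, hspan, hgp⟩ := exists_cover hF P₁ (fun x => (val x).1)
    fun x => ((hZ _).1 (val x).2).2
  have hgZ : ∀ x, g x ∈ Z := by
    have h1 : Submodule.span A (Set.range p) ≤ Z.comap g :=
      Submodule.span_le.2 (Set.range_subset_iff.2 fun j => by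
        show g (p j) ∈ Z
        rw [hgp]
        exact (val _).2)
    exact fun x => h1 (hspan ▸ Submodule.mem_top)
  have hcg : c ∘ₗ g.codRestrict Z hgZ = φ ∘ₗ π :=
    LinearMap.ext_on_range hspan fun j => by
      show c _ = φ (π (p j))
      rw [← hval]
      exact congrArg c (Subtype.ext (hgp j))
  let K := LinearMap.ker π
  have hK : Killed J m K := fun a ha x => Subtype.ext (hP a ha x.1)
  haveI : Module.Finite A K := Module.Finite.of_injective K.subtype Subtype.val_injective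
  obtain ⟨h, hh⟩ := exists_lift hd hK (g ∘ₗ K.subtype) fun x =>
    (hker ⟨g x.1, hgZ x.1⟩).1 ((LinearMap.congr_fun hcg x.1).trans (by
      show φ (π x.1) = 0
      rw [show π x.1 = 0 from x.2, map_zero]))
  obtain ⟨h', hh'⟩ := hinj.out K.subtype Subtype.val_injective h
  obtain ⟨z, hzπ⟩ := exists_descend hπ (g - d ∘ₗ h') (LinearMap.ext fun x => by
    show g x.1 - d (h' x.1) = 0
    rw [sub_eq_zero]
    exact ((congrArg d (hh' x)).trans (LinearMap.congr_fun hh x)).symm)
  have hdh : ∀ x, d (h' x) ∈ Z := fun x => (hZ _).2 ⟨LinearMap.congr_fun hed _,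
    ⟨m, fun a ha => by rw [← map_smul, ← map_smul, hP a ha x, map_zero, map_zero]⟩⟩
  have hz : ∀ x, z x ∈ Z := fun x => by
    obtain ⟨y, rfl⟩ := hπ x
    rw [show z (π y) = g y - d (h' y) from LinearMap.congr_fun hzπ y]
    exact Z.sub_mem (hgZ y) (hdh y)
  refine ⟨z, hz, (LinearMap.cancel_right hπ).1 (LinearMap.ext fun y => ?_)⟩
  have h2 : c ⟨d (h' y), hdh y⟩ = 0 :=
    (hker _).2 ⟨h' y, mem_torsion_of_killed hP h' y, rfl⟩
  show c ⟨z (π y), hz _⟩ = φ (π y)
  rw [show (⟨z (π y), hz (π y)⟩ : Z) = ⟨g y, hgZ y⟩ - ⟨d (h' y), hdh y⟩ from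
    Subtype.ext (LinearMap.congr_fun hzπ y), map_sub, h2, sub_zero]
  exact LinearMap.congr_fun hcg y

end LcExtHomLib

end
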