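import Groth.Agent.IdealTransLib.Derived
import Groth.Agent.LcExtHomLib.Core
import Mathlib.Algebra.Category.ModuleCat.EnoughInjectives

/-!
`Ext^n(F, G) ≅ Hom(F, H^n_J G)` when `Ext^{n-1}(-, G)` vanishes on finite torsion modules.
-/

set_option autoImplicit false
set_option linter.style.haveILetI false
set_option maxHeartbeats 800000

universe u

open CategoryTheory CategoryTheory.Limits Opposite LocCoh LocCohLib

noncomputable section

namespace LcExtHomLib

variable {A : Type u} [CommRing A]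

/-- `Hom(F, -)`. -/
abbrev homF (F : ModuleCat.{u} A) : ModuleCat.{u} A ⥤ ModuleCat.{u} A :=
  (linearCoyoneda A (ModuleCat.{u} A)).obj (op F)

instance preservesFiniteLimits_homF (F : ModuleCat.{u} A) : PreservesFiniteLimits (homF F) := by
  rw [Functor.preservesFiniteLimits_iff_forall_exact_map_and_mono]
  intro S hS
  haveI := hS.mono_f
  refine ⟨(ShortComplex.moduleCat_exact_iff _).2 fun (g : F ⟶ S.X₂) hg => ?_,
    (ModuleCat.mono_iff_injective _).2 fun (a b : F ⟶ S.X₁) h => (cancel_mono S.f).1 h⟩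
  exact ⟨hS.exact.lift g hg, hS.exact.lift_f g hg⟩

/-- The one-term system. -/
abbrev oneSys (F : ModuleCat.{u} A) : Discrete PUnit.{1} ⥤ ModuleCat.{u} A := Functor.fromPUnit F

instance exactColimOne : HasExactColimitsOfShape (Discrete PUnit.{1})ᵒᵖ (ModuleCat.{u} A) := by
  exact HasExactColimitsOfShape.of_domain_equivalence (ModuleCat.{u} A) (Discrete.opposite PUnit.{1}).symm

/-- The classical `Ext` is the right derived functor of `Hom`. -/
theorem nonempty_ext_iso (F G : ModuleCat.{u} A) (n : ℕ) :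
    Nonempty (((Ext A (ModuleCat.{u} A) n).obj (op F)).obj G ≅ ((homF F).rightDerived n).obj G) := by
  let X := oneSys F
  let S : ResSystem X := funSystem X
  let pt : (Discrete PUnit.{1})ᵒᵖ := op ⟨PUnit.unit⟩
  have hterm : IsTerminal pt :=
    IsTerminal.ofUniqueHom (fun Y => (Discrete.eqToHom (Subsingleton.elim _ _)).op)
      fun Y m => Quiver.Hom.unop_inj (Subsingleton.elim _ _)
  let κ : (X.op ⋙ linearCoyoneda A (ModuleCat.{u} A)).flip ⋙ colim ≅ homF F :=
    NatIso.ofComponents (fun M => (@asIso _ _ _ _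
      (colimit.ι (((X.op ⋙ linearCoyoneda A (ModuleCat.{u} A)).flip).obj M) pt)
      (isIso_ι_of_isTerminal hterm _)).symm) fun {M N} g => by
        rw [Iso.symm_hom, Iso.symm_hom, asIso_inv, asIso_inv, IsIso.eq_inv_comp, ← Category.assoc,
          IsIso.comp_inv_eq]
        exact ι_colimMap _ pt
  let θ : (IdealTransLib.rdDelta (homF F)).F 0 ≅ S.deltaFun.F 0 :=
    (homF F).rightDerivedZeroIsoSelf ≪≫ κ.symm ≪≫ S.cohZeroIso
  let ε := DeltaFun.isoOfZero (IdealTransLib.rdDelta_effaceable (homF F)) S.effaceable θ n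
  let D := X.op ⋙ Ext A (ModuleCat.{u} A) n
  haveI : IsIso (colimit.ι D pt) := isIso_ι_of_isTerminal hterm D
  exact ⟨(asIso (colimit.ι D pt)).app G ≪≫ (S.colimExtIso n).app G ≪≫ (ε.app G).symm⟩

variable [IsNoetherianRing A] (J : Ideal A) (G : ModuleCat.{u} A)

/-- The injective resolution in use. -/
abbrev res : InjectiveResolution G := injectiveResolution G

/-- `Ext` through the injective resolution. -/
theorem nonempty_ext_homology (F : ModuleCat.{u} A) (n : ℕ) :
    Nonempty (((Ext A (ModuleCat.{u} A) n).obj (op F)).obj G ≅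
      (((res G).cocomplex.sc n).map (homF F)).homology) := by
  obtain ⟨e⟩ := nonempty_ext_iso F G n
  exact ⟨e ≪≫ (res G).isoRightDerivedObj (homF F) n⟩

/-- Local cohomology through the injective resolution. -/
theorem nonempty_H_homology (n : ℕ) :
    Nonempty ((localCohomology J n).obj G ≅ (((res G).cocomplex.sc n).map (DRing.gammaI J)).homology) :=
  ⟨((IdealTransLib.rdGammaIso J n).app G).symm ≪≫ (res G).isoRightDerivedObj (DRing.gammaI J) n⟩

instance injective_res (k : ℕ) : Module.Injective A ((res G).cocomplex.X k) :=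
  haveI := (res G).injective k
  Module.injective_module_of_injective_object A _

theorem support_of_killed {k : ℕ} {K : Type u} [AddCommGroup K] [Module A K] (hK : Killed J k K) :
    Module.support A K ⊆ PrimeSpectrum.zeroLocus (J : Set A) := fun p hp => by
  intro a ha
  by_contra hap
  obtain ⟨x, hx⟩ := Module.mem_support_iff'.1 hp
  exact hx (a ^ k) (fun h => hap (p.isPrime.mem_of_pow_mem k h)) (hK _ (Ideal.pow_mem_pow ha k) x)

/-- The extension property of cocycles. -/
theorem extendsCocycles (n : ℕ)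
    (hvan : ∀ (F' : Type u) [AddCommGroup F'] [Module A F'], Module.Finite A F' →
      Module.support A F' ⊆ PrimeSpectrum.zeroLocus (J : Set A) → ∀ i : ℕ, i + 1 = n →
        Subsingleton (((Ext A (ModuleCat.{u} A) i).obj (op (ModuleCat.of A F'))).obj G)) :
    ExtendsCocycles ((res G).cocomplex.sc n).f.hom J := by
  intro K P _ _ _ _ _ k hP ι hι h hdh
  rcases n with _ | i
  · obtain ⟨h', hh'⟩ := (injective_res G _).out ι hι h
    refine ⟨h', ?_, LinearMap.ext hh'⟩
    have h0 : ((res G).cocomplex.sc 0).f = 0 := (res G).cocomplex.shape _ _ (by simp)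
    rw [h0]
    exact LinearMap.zero_comp _
  · have hK : Killed J k K := fun a ha x => hι (by rw [map_smul, hP a ha, map_zero])
    haveI : Module.Finite A K := Module.Finite.of_injective ι hι
    haveI := hvan K inferInstance (support_of_killed J hK) i rfl
    obtain ⟨e⟩ := nonempty_ext_homology G (ModuleCat.of A K) i
    let C := (res G).cocomplex
    let T := (C.sc i).map (homF (ModuleCat.of A K))
    have hex : T.Exact := T.exact_iff_isZero_homology.2
      (haveI := e.toLinearEquiv.symm.subsingleton; ModuleCat.isZero_of_subsingleton _)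
    have hp : (ComplexShape.up ℕ).prev (i + 1) = i := by simp
    have hn : (ComplexShape.up ℕ).next i = i + 1 := by simp
    revert h
    show ∀ h : K →ₗ[A] C.X ((ComplexShape.up ℕ).prev (i + 1)),
      (C.d ((ComplexShape.up ℕ).prev (i + 1)) (i + 1)).hom ∘ₗ h = 0 →
      ∃ h' : P →ₗ[A] C.X ((ComplexShape.up ℕ).prev (i + 1)),
        (C.d ((ComplexShape.up ℕ).prev (i + 1)) (i + 1)).hom ∘ₗ h' = 0 ∧ h' ∘ₗ ι = h
    rw [hp]
    intro h hdh
    have hd : (ModuleCat.ofHom h ≫ C.d i ((ComplexShape.up ℕ).next i) : ModuleCat.of A K ⟶ _) = 0 := by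
      rw [hn]
      exact ModuleCat.hom_ext hdh
    obtain ⟨c, hc⟩ := (ShortComplex.moduleCat_exact_iff T).1 hex (ModuleCat.ofHom h) hd
    let j := (ComplexShape.up ℕ).prev i
    obtain ⟨c', hc'⟩ := (injective_res G j).out ι hι (ModuleCat.Hom.hom (R := A) c)
    refine ⟨(C.d j i).hom ∘ₗ c', ?_, ?_⟩
    · rw [← LinearMap.comp_assoc, ← ModuleCat.hom_comp, C.d_comp_d]
      exact LinearMap.zero_comp _
    · refine LinearMap.ext fun x => ?_
      have h1 := LinearMap.congr_fun (congrArg ModuleCat.Hom.hom hc) x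
      exact (congrArg (C.d j i).hom (hc' x)).trans h1

/-- The main isomorphism. -/
theorem nonempty_ext_linearEquiv (F : Type u) [AddCommGroup F] [Module A F] [Module.Finite A F]
    (hF : Module.support A F ⊆ PrimeSpectrum.zeroLocus (J : Set A)) (n : ℕ)
    (hvan : ∀ (F' : Type u) [AddCommGroup F'] [Module A F'], Module.Finite A F' →
      Module.support A F' ⊆ PrimeSpectrum.zeroLocus (J : Set A) → ∀ i : ℕ, i + 1 = n →
        Subsingleton (((Ext A (ModuleCat.{u} A) i).obj (op (ModuleCat.of A F'))).obj G)) :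
    Nonempty (((Ext A (ModuleCat.{u} A) n).obj (op (ModuleCat.of A F))).obj G ≃ₗ[A]
      (F →ₗ[A] (localCohomology J n).obj G)) := by
  obtain ⟨k, hk⟩ : ∃ k, Killed J k F := by
    have hle : J ≤ (Module.annihilator A F).radical := by
      rw [Module.support_eq_zeroLocus] at hF
      exact (PrimeSpectrum.zeroLocus_subset_zeroLocus_iff _ _).1 hF
    obtain ⟨k, hk⟩ := Ideal.exists_pow_le_of_le_radical_of_fg hle (IsNoetherian.noetherian J)
    exact ⟨k, fun a ha x => Module.mem_annihilator.1 (hk ha) x⟩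
  let S := (res G).cocomplex.sc n
  let S₁ := S.map (homF (ModuleCat.of A F))
  let S₂ := S.map (DRing.gammaI J)
  obtain ⟨e₁⟩ := nonempty_ext_homology G (ModuleCat.of A F) n
  obtain ⟨e₂⟩ := nonempty_H_homology J G n
  let H₂ := LinearMap.ker S₂.g.hom ⧸ LinearMap.range S₂.moduleCatToCycles
  have hext := extendsCocycles J G n hvan
  let Z : Submodule A S.X₂ := LinearMap.ker S.g.hom ⊓ DRing.torsionSub J S.X₂
  let c : Z →ₗ[A] H₂ := Submodule.mkQ _ ∘ₗ
    { toFun := fun z => ⟨(⟨z.1, z.2.2⟩ : DRing.torsionSub J S.X₂), Subtype.ext z.2.1⟩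
      map_add' := fun _ _ => rfl
      map_smul' := fun _ _ => rfl }
  have hcsur : Function.Surjective c := fun x => by
    obtain ⟨⟨⟨z, hz⟩, hz'⟩, rfl⟩ := Submodule.mkQ_surjective _ x
    exact ⟨⟨z, congrArg Subtype.val hz', hz⟩, rfl⟩
  have hcker : ∀ z : Z, c z = 0 ↔ ∃ y ∈ DRing.torsionSub J S.X₁, S.f.hom y = z.1 := fun z => by
    refine (Submodule.Quotient.mk_eq_zero _).trans ⟨fun ⟨y, hy⟩ => ?_, fun ⟨y, hy, hyz⟩ => ?_⟩
    · exact ⟨(y : DRing.torsionSub J S.X₁).1, (y : DRing.torsionSub J S.X₁).2,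
        congrArg (fun w : LinearMap.ker S₂.g.hom => (w.1 : DRing.torsionSub J S.X₂).1) hy⟩
    · exact ⟨(⟨y, hy⟩ : DRing.torsionSub J S.X₁), Subtype.ext (Subtype.ext hyz)⟩
  have hmem : ∀ (z : LinearMap.ker S₁.g.hom) (x : F), (z.1 : ModuleCat.of A F ⟶ S.X₂).hom x ∈ Z := fun z x =>
    ⟨LinearMap.congr_fun (congrArg ModuleCat.Hom.hom (z.2 : (z.1 : ModuleCat.of A F ⟶ S.X₂) ≫ S.g = 0)) x,
      mem_torsion_of_killed hk _ x⟩
  let Ψ : LinearMap.ker S₁.g.hom →ₗ[A] (F →ₗ[A] H₂) :=
    { toFun := fun z => c ∘ₗ (z.1 : ModuleCat.of A F ⟶ S.X₂).hom.codRestrict Z (hmem z)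
      map_add' := fun z z' => by
        rw [← LinearMap.comp_add]
        rfl
      map_smul' := fun r z => by
        rw [RingHom.id_apply, ← LinearMap.comp_smul]
        rfl }
  have hΨ : Function.Surjective Ψ := fun φ => by
    obtain ⟨z, hz, hφ⟩ := exists_cocycle S.g.hom hext (injective_res G _)
      (congrArg ModuleCat.Hom.hom S.zero) hk Z (fun _ => Iff.rfl) c hcsur hcker φ
    exact ⟨⟨ModuleCat.ofHom z, ModuleCat.hom_ext (LinearMap.ext fun x => (hz x).1)⟩, hφ⟩
  have hΨker : LinearMap.ker Ψ = LinearMap.range S₁.moduleCatToCycles := by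
    refine Submodule.ext fun z => ⟨fun h => ?_, fun ⟨y, hy⟩ => ?_⟩
    · obtain ⟨g₁, hg₁⟩ := exists_lift hext hk (z.1 : ModuleCat.of A F ⟶ S.X₂).hom
        fun x => (hcker _).1 (LinearMap.congr_fun (h : Ψ z = 0) x)
      exact ⟨ModuleCat.ofHom g₁, Subtype.ext (ModuleCat.hom_ext hg₁)⟩
    · refine LinearMap.ext fun x => (hcker _).2 ⟨(y : ModuleCat.of A F ⟶ S.X₁).hom x,
        mem_torsion_of_killed hk _ x, ?_⟩
      exact LinearMap.congr_fun (congrArg ModuleCat.Hom.hom (congrArg Subtype.val hy)) x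
  exact ⟨(e₁ ≪≫ S₁.moduleCatHomologyIso).toLinearEquiv.trans
    (((Submodule.quotEquivOfEq _ _ hΨker.symm).trans (LinearMap.quotKerEquivOfSurjective Ψ hΨ)).trans
      (LinearEquiv.congrRight (e₂ ≪≫ S₂.moduleCatHomologyIso).toLinearEquiv.symm))⟩

end LcExtHomLib

end
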